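import Groth.Agent.Lib.GLRed28.Integral
import Groth.Agent.Lib.OrbitH28.Basic
import Groth.Agent.Lib.FreeOrbH28.Dim
import Groth.Agent.Lib.WeightH28.Basic
import Groth.Agent.S19602
import Mathlib.Algebra.Polynomial.Laurent
import Mathlib.LinearAlgebra.TensorProduct.Basis
import Mathlib.RingTheory.Jacobson.Ring
import Mathlib.Data.Rat.Cast.CharZero

/-!
# Semistability for actions of ray type
-/

universe u v w

open TensorProduct HopfRep CoordGrp WithConv
open Groth.Agent.OrbitH28

noncomputable section

namespace Groth.Agent.RayType28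

theorem orbitHom_comodAlong {k : Type u} [CommRing k] {A : Type v} [CommRing A] [Bialgebra k A] {B : Type v}
    [CommRing B] [Bialgebra k B] (φ : A →ₐc[k] B) {R : Type w} [CommRing R] [Algebra k R] (c : Comod k A R)
    (hc : @GLin.IsCoactAlg k _ A _ _ R _ _ c) (x : R →ₐ[k] k) (f : R) :
    @GLin.orbitHom k _ B _ _ R _ _ (GLin.comodAlong φ c) (GLin.isCoactAlg_comodAlong φ c hc) x f =
      φ (@GLin.orbitHom k _ A _ _ R _ _ c hc x f) := by
  letI := c
  haveI := hc
  show TensorProduct.lid k B (TensorProduct.map x.toLinearMap LinearMap.id (TensorProduct.map LinearMap.id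
    (φ : A →ₗ[k] B) (c.coact f))) = φ (TensorProduct.lid k A (TensorProduct.map x.toLinearMap LinearMap.id (c.coact f)))
  generalize c.coact f = z
  induction z with
  | zero => simp
  | add a b ha hb => simp only [map_add, ha, hb]
  | tmul a b => simp

variable {k : Type u} [Field k] {n : ℕ}

/-- Evaluation of Laurent polynomials at a unit. -/
def evalU (u : kˣ) : LaurentPolynomial k →ₐ[k] k :=
  AddMonoidAlgebra.lift k k ℤ ((Units.coeHom k).comp (zpowersHom kˣ u))

lemma evalU_single (u : kˣ) (j : ℤ) (c : k) : evalU u (AddMonoidAlgebra.single j c) = c * ((u ^ j : kˣ) : k) := by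
  rw [evalU, AddMonoidAlgebra.lift_single]
  simp [zpowersHom_apply]

lemma evalU_T (u : kˣ) (j : ℤ) : evalU u (LaurentPolynomial.T j) = ((u ^ j : kˣ) : k) := by
  simpa using evalU_single u j 1

/-- The scalar one-parameter subgroup. -/
def diag1 (n : ℕ) (k : Type u) [Field k] : GLn n k →ₐc[k] LaurentPolynomial k := GLn.diag n k fun _ => 1

/-- The scalar points. -/
def scal (n : ℕ) (u : kˣ) : Pts k (GLn n k) :=
  toConv ((evalU u).comp (diag1 n k : GLn n k →ₐ[k] LaurentPolynomial k))

lemma scal_X (u : kˣ) (i j : Fin n) :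
    (scal n u).ofConv (GLn.X i j) = if i = j then (u : k) else 0 := by
  show evalU u (GLn.diag n k (fun _ => 1) (GLn.X i j)) = _
  rw [GLn.diag_X]
  split_ifs
  · rw [evalU_T, zpow_one]
  · rw [map_zero]

lemma apply_det (g : Pts k (GLn n k)) :
    g.ofConv GLn.det = (Matrix.of fun i j => g.ofConv (GLn.X i j)).det := by
  rw [GLn.det_eq, AlgHom.map_det]
  rfl

lemma pts_ext {g h : Pts k (GLn n k)} (e : ∀ i j, g.ofConv (GLn.X i j) = h.ofConv (GLn.X i j)) : g = h := by
  apply WithConv.ofConv_injective
  refine GLn.algHom_ext e ?_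
  have hd : g.ofConv GLn.det = h.ofConv GLn.det := by
    rw [apply_det, apply_det]; congr 1; ext i j; exact e i j
  have h1 : g.ofConv GLn.det * g.ofConv GLn.Dinv = 1 := by rw [← map_mul, GLn.det_mul_Dinv, map_one]
  have h2 : h.ofConv GLn.det * h.ofConv GLn.Dinv = 1 := by rw [← map_mul, GLn.det_mul_Dinv, map_one]
  rw [← hd] at h2
  exact mul_left_cancel₀ (left_ne_zero_of_mul_eq_one h1) (h1.trans h2.symm)

lemma mul_X (g h : Pts k (GLn n k)) (i j : Fin n) :
    (g * h).ofConv (GLn.X i j) = ∑ l, g.ofConv (GLn.X i l) * h.ofConv (GLn.X l j) := by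
  rw [AlgHom.convMul_apply, GLn.comul_X, map_sum]
  simp

lemma scal_mul_X (u : kˣ) (g : Pts k (GLn n k)) (i j : Fin n) :
    (scal n u * g).ofConv (GLn.X i j) = (u : k) * g.ofConv (GLn.X i j) := by
  simp [mul_X, scal_X]

lemma scal_central (u : kˣ) (g : Pts k (GLn n k)) : scal n u * g = g * scal n u :=
  pts_ext fun i j => by
    rw [scal_mul_X, mul_X]
    simp [scal_X, mul_comm]

lemma scal_mul_scal (u v : kˣ) : scal n (u * v) = scal n u * scal n v :=
  pts_ext fun i j => by
    rw [scal_mul_X, scal_X, scal_X]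
    split_ifs <;> simp

lemma scal_one : scal n (1 : kˣ) = 1 :=
  pts_ext fun i j => by
    rw [scal_X, AlgHom.convOne_apply, GLn.counit_X]
    simp

/-- A point of the special linear group, in the general linear group. -/
def fromSL (s : SLn n k →ₐ[k] k) : Pts k (GLn n k) :=
  toConv (s.comp (SLn.mkHom n k : GLn n k →ₐ[k] SLn n k))

lemma exists_scal_mul_fromSL [IsAlgClosed k] (hn : 1 ≤ n) (g : Pts k (GLn n k)) :
    ∃ (t : kˣ) (s : SLn n k →ₐ[k] k), g = scal n t * fromSL s ∧ ((t : k)) ^ n = g.ofConv GLn.det := by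
  have hne : g.ofConv GLn.det ≠ 0 :=
    left_ne_zero_of_mul_eq_one (show g.ofConv GLn.det * g.ofConv GLn.Dinv = 1 by
      rw [← map_mul, GLn.det_mul_Dinv, map_one])
  obtain ⟨t, ht⟩ := IsAlgClosed.exists_pow_nat_eq (g.ofConv GLn.det) hn
  have ht0 : t ≠ 0 := fun h => hne (by rw [← ht, h, zero_pow (by omega)])
  let M : Matrix (Fin n) (Fin n) k := t⁻¹ • (Matrix.of fun i j => g.ofConv (GLn.X i j))
  have hM : M.det = 1 := by
    rw [Matrix.det_smul, Fintype.card_fin, ← apply_det, ← ht, ← mul_pow, inv_mul_cancel₀ ht0, one_pow]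
  refine ⟨Units.mk0 t ht0, SLn.pt n k M hM, pts_ext fun i j => ?_, ht⟩
  rw [scal_mul_X]
  show _ = t * SLn.pt n k M hM (SLn.X i j)
  rw [SLn.pt_X]
  simp [M, ht0]

variable [CharZero k]

lemma finiteType_GLn : Algebra.FiniteType k (GLn n k) :=
  haveI : Algebra.FiniteType k (GLb n k) :=
    inferInstanceAs (Algebra.FiniteType k (MvPolynomial (GLPoly.Idx n) k))
  Algebra.FiniteType.of_surjective (GLn.mk n k) Ideal.Quotient.mk_surjective

lemma finiteType_SLn : Algebra.FiniteType k (SLn n k) :=
  haveI := finiteType_GLn (n := n) (k := k)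
  Algebra.FiniteType.of_surjective (SLn.mk n k) Ideal.Quotient.mk_surjective

lemma eq_zero_of_forall_units (s : Finset ℤ) (a : ℤ → k) (h : ∀ u : kˣ, ∑ i ∈ s, a i * ((u ^ i : kˣ) : k) = 0) :
    ∀ i ∈ s, a i = 0 := by
  let two : kˣ := Units.mk0 (2 : k) two_ne_zero
  have hinj : Function.Injective fun i : ℤ => ((Units.coeHom k).comp (zpowGroupHom (α := kˣ) i) : kˣ →* k) := by
    intro i j hij
    have := DFunLike.congr_fun hij two
    simp [two] at this
    have h2 : ((2 : ℚ) ^ i : ℚ) = (2 : ℚ) ^ j := by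
      apply Rat.cast_injective (α := k)
      push_cast
      exact this
    exact zpow_right_injective₀ (by norm_num : (0 : ℚ) < 2) (by norm_num : (2 : ℚ) ≠ 1) h2
  have hli := (linearIndependent_monoidHom kˣ k).comp _ hinj
  rw [linearIndependent_iff'] at hli
  refine hli s a (funext fun u => ?_)
  simpa [Finset.sum_apply] using h u

/-- A tensor with a reduced left factor is detected by points. -/
lemma eq_of_forall_slice [IsAlgClosed k] {R : Type u} [CommRing R] [Algebra k R] [Algebra.FiniteType k R] [IsReduced R]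
    {B : Type u} [AddCommGroup B] [Module k B] {z z' : R ⊗[k] B}
    (h : ∀ x : R →ₐ[k] k, TensorProduct.lid k B (x.toLinearMap.rTensor B z) =
      TensorProduct.lid k B (x.toLinearMap.rTensor B z')) : z = z' := by
  haveI : IsJacobsonRing R := isJacobsonRing_of_finiteType (A := k)
  have hR : ∀ r : R, (∀ x : R →ₐ[k] k, x r = 0) → r = 0 := fun r hr => by
    have hJ : (⊥ : Ideal R).jacobson = ⊥ :=
      IsJacobsonRing.out inferInstance (Ideal.isRadical_bot_iff.2 inferInstance)
    have : r ∈ (⊥ : Ideal R).jacobson := by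
      rw [Ideal.jacobson, Ideal.mem_sInf]
      rintro M ⟨-, hM⟩
      haveI := hM
      obtain ⟨g, hg⟩ := FreeOrbH28.exists_point_of_isMaximal (k := k) M
      rw [← hg, RingHom.mem_ker, hr g]
    rwa [hJ] at this
  let b := Module.Free.chooseBasis k B
  let Φ := TensorProduct.equivFinsuppOfBasisRight (M := R) b
  have hΦ : ∀ (x : R →ₐ[k] k) w i,
      b.repr (TensorProduct.lid k B (x.toLinearMap.rTensor B w)) i = x (Φ w i) := by
    intro x w i
    induction w with
    | zero => simp
    | add p q hp hq => simp only [map_add, Finsupp.add_apply, hp, hq]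
    | tmul p q => simp [Φ, mul_comm]
  refine Φ.injective (Finsupp.ext fun i => sub_eq_zero.1 (hR _ fun x => ?_))
  rw [map_sub, ← hΦ, ← hΦ, h x, sub_self]

section Action

variable [IsAlgClosed k] {R : Type u} [CommRing R] [Algebra k R] [Algebra.FiniteType k R] [IsDomain R]
  [Comod k (GLn n k) R] [GLin.IsCoactAlg k (GLn n k) R]

/-- Along the scalar one-parameter subgroup, the orbit of a point is the sum of its weight parts. -/
lemma exists_lamOrbit_eq (f : R) : ∃ (part : ℤ → R) (s : Finset ℤ),
    (∀ i ∉ s, part i = 0) ∧ ∑ i ∈ s, part i = f ∧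
    (∀ z : R →ₐ[k] k, GLin.lamOrbit k (GLn n k) (diag1 n k) z f =
      ∑ i ∈ s, AddMonoidAlgebra.single i (z (part i))) ∧
    ∀ (i : ℤ) (z : R →ₐ[k] k), GLin.lamOrbit k (GLn n k) (diag1 n k) z (part i) =
      AddMonoidAlgebra.single i (z (part i)) := by
  let cT : Comod k (AddMonoidAlgebra k ℤ) R := GLin.comodAlong (diag1 n k) inferInstance
  have horb : ∀ (z : R →ₐ[k] k) (r : R), GLin.lamOrbit k (GLn n k) (diag1 n k) z r =
      TensorProduct.lid k _ (z.toLinearMap.rTensor _ (cT.coact r)) := fun z r =>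
    (orbitHom_comodAlong (diag1 n k) _ inferInstance z r).symm
  letI := cT
  obtain ⟨s, hs, hsum, hco⟩ := WeightH28.exists_sum_part (k := k) (M := ℤ) f
  refine ⟨fun i => WeightH28.part k i f, s, hs, hsum, fun z => ?_, fun i z => ?_⟩
  · rw [horb, hco, map_sum, map_sum]
    exact Finset.sum_congr rfl fun i _ => by simp [LaurentPolynomial.smul_eq_C_mul]
  · rw [horb, show cT.coact (WeightH28.part k i f) = _ from WeightH28.part_mem i f]
    simp [LaurentPolynomial.smul_eq_C_mul]

lemma mv_scal (u : kˣ) (z : R →ₐ[k] k) (f : R) :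
    mv (scal n u) z f = evalU u (GLin.lamOrbit k (GLn n k) (diag1 n k) z f) := rfl

/-- Invariants of the special linear group are unchanged along it. -/
lemma mv_fromSL (s : SLn n k →ₐ[k] k) (z : R →ₐ[k] k) {f : R}
    (hf : (GLin.comodAlong (SLn.mkHom n k) (inferInstance : Comod k (GLn n k) R)).coact f = f ⊗ₜ[k] (1 : SLn n k)) :
    mv (fromSL s) z f = z f := by
  show s (SLn.mkHom n k (GLin.orbitHom k (GLn n k) z f)) = z f
  rw [← orbitHom_comodAlong (SLn.mkHom n k) _ inferInstance z f]
  show s (TensorProduct.lid k _ (TensorProduct.map z.toLinearMap LinearMap.id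
    ((GLin.comodAlong (SLn.mkHom n k) inferInstance).coact f))) = _
  rw [hf]
  simp

theorem semistable_iff (hn : 1 ≤ n)
    (hlim : ∀ z : R →ₐ[k] k, GLin.HasLimit k (GLn n k) (diag1 n k) z) (x : R →ₐ[k] k) :
    (∃ m : ℕ, 0 < m ∧ ∃ f ∈ HopfRep.eigenspace k (GLn n k) R ((GLn.det : GLn n k) ^ m), x f ≠ 0) ↔
      ∀ y : R →ₐ[k] k,
        GLin.lamOrbit k (GLn n k) (diag1 n k) y = (Algebra.ofId k (LaurentPolynomial k)).comp y →
          ¬ @GLin.InOrbitClosure k _ (SLn n k) _ _ R _ _
              (GLin.comodAlong (SLn.mkHom n k) inferInstance)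
              (GLin.isCoactAlg_comodAlong (SLn.mkHom n k) inferInstance inferInstance) x y := by
  classical
  haveI := finiteType_GLn (n := n) (k := k)
  haveI := finiteType_SLn (n := n) (k := k)
  constructor
  · rintro ⟨m, hm, f, hf, hxf⟩ y hy hcl
    have horb : ∀ z : R →ₐ[k] k, GLin.orbitHom k (GLn n k) z f = z f • (GLn.det : GLn n k) ^ m := by
      intro z
      rw [Comodule.orbitHom_apply, show Comod.coact (k := k) (A := GLn n k) f = f ⊗ₜ[k] _ from hf]
      simp
    have hker : f - algebraMap k R (x f) ∈ RingHom.ker (@GLin.orbitHom k _ (SLn n k) _ _ R _ _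
        (GLin.comodAlong (SLn.mkHom n k) inferInstance)
        (GLin.isCoactAlg_comodAlong (SLn.mkHom n k) inferInstance inferInstance) x) := by
      rw [RingHom.mem_ker, map_sub, AlgHom.commutes, orbitHom_comodAlong _ _ inferInstance, horb, map_smul, map_pow]
      show x f • SLn.mk n k GLn.det ^ m - _ = 0
      rw [SLn.det_eq_one, one_pow, Algebra.algebraMap_eq_smul_one, sub_self]
    have hyf : y f = x f := by
      have := hcl hker
      rwa [RingHom.mem_ker, map_sub, AlgHom.commutes, Algebra.algebraMap_self, RingHom.id_apply, sub_eq_zero] at this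
    have h1 := AlgHom.congr_fun hy f
    rw [show GLin.lamOrbit k (GLn n k) (diag1 n k) y f = diag1 n k (GLin.orbitHom k (GLn n k) y f) from rfl,
      horb, map_smul, map_pow] at h1
    have h2 := congrArg (evalU (Units.mk0 (2 : k) two_ne_zero)) h1
    rw [map_smul, map_pow, show diag1 n k (GLn.det : GLn n k) = LaurentPolynomial.T (∑ _i : Fin n, (1 : ℤ)) from
      GLn.diag_det _, evalU_T, AlgHom.comp_apply, Algebra.ofId_apply, AlgHom.commutes] at h2
    simp only [Finset.sum_const, Finset.card_univ, Fintype.card_fin, nsmul_eq_mul, mul_one, zpow_natCast,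
      Units.val_pow_eq_pow_val, Units.val_mk0, smul_eq_mul, Algebra.algebraMap_self, RingHom.id_apply,
      ← pow_mul] at h2
    rw [hyf] at h2
    have h3 : ((2 : ℕ) ^ (n * m) : k) = ((1 : ℕ) : k) := by
      push_cast
      exact mul_left_cancel₀ hxf (h2.trans (mul_one _).symm)
    have h4 : (2 : ℕ) ^ (n * m) = 1 := by exact_mod_cast h3
    have : 0 < n * m := Nat.mul_pos hn hm
    exact absurd h4 (Nat.one_lt_two_pow_iff.2 this.ne').ne'
  · intro hcond
    by_contra! hno
    choose part supp hsupp hsum horbf horbp using fun f : R => exists_lamOrbit_eq (n := n) (k := k) f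
    have hmv : ∀ (u : kˣ) (z : R →ₐ[k] k) (f : R),
        mv (scal n u) z f = ∑ i ∈ supp f, z (part f i) * ((u ^ i : kˣ) : k) := by
      intro u z f
      rw [mv_scal, horbf, map_sum]
      exact Finset.sum_congr rfl fun i _ => evalU_single u i _
    have hmvp : ∀ (u : kˣ) (z : R →ₐ[k] k) (f : R) (i : ℤ),
        mv (scal n u) z (part f i) = z (part f i) * ((u ^ i : kˣ) : k) := fun u z f i => by
      rw [mv_scal, horbp, evalU_single]
    have hneg : ∀ (f : R) (i : ℤ) (z : R →ₐ[k] k), i < 0 → z (part f i) = 0 := by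
      intro f i z hi
      obtain ⟨h, hh⟩ := hlim z
      have e := AlgHom.congr_fun hh (part f i)
      rw [AlgHom.comp_apply, horbp] at e
      have := congrArg (fun q : LaurentPolynomial k => q.coeff i) e
      simp only [Polynomial.toLaurentAlg_apply, LaurentPolynomial.coeff_toLaurent, AddMonoidAlgebra.coeff_single,
        Finsupp.single_eq_same] at this
      rw [← this, Finsupp.mapDomain_of_notMem_range]
      rintro ⟨d, hd⟩
      simp at hd
      omega
    obtain ⟨h, hh⟩ := hlim x
    let y₀ : R →ₐ[k] k := (Polynomial.aeval (0 : k)).comp h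
    have hy₀ : ∀ f, y₀ f = x (part f 0) := by
      intro f
      have e := congrArg (fun q : LaurentPolynomial k => q.coeff (0 : ℤ)) (AlgHom.congr_fun hh f)
      simp only [AlgHom.comp_apply, Polynomial.toLaurentAlg_apply, LaurentPolynomial.coeff_toLaurent,
        horbf, AddMonoidAlgebra.coeff_sum, Finset.sum_apply', AddMonoidAlgebra.coeff_single,
        Finsupp.single_apply, Finset.sum_ite_eq'] at e
      rw [show ((0 : ℤ)) = (Nat.castEmbedding : ℕ ↪ ℤ) 0 from rfl, Finsupp.mapDomain_apply Nat.castEmbedding.injective] at e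
      show (Polynomial.aeval (0 : k)) (h f) = _
      rw [Polynomial.coe_aeval_eq_eval, ← Polynomial.coeff_zero_eq_eval_zero]
      refine (e : (h f).coeff 0 = _).trans ?_
      split_ifs with h0
      · rfl
      · rw [hsupp f 0 h0, map_zero]
    have hy₀mv : ∀ u : kˣ, mv (scal n u) y₀ = y₀ := by
      intro u
      refine AlgHom.ext fun f => ?_
      have hyp : ∀ i : ℤ, i ≠ 0 → y₀ (part f i) = 0 := fun i hi => by
        rw [hy₀]
        have e := horbp f i x
        rw [horbf] at e
        have := congrArg (fun q : LaurentPolynomial k => q.coeff (0 : ℤ)) e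
        simp only [AddMonoidAlgebra.coeff_sum, Finset.sum_apply', AddMonoidAlgebra.coeff_single,
          Finsupp.single_apply, Finset.sum_ite_eq', if_neg hi] at this
        by_cases h0 : (0 : ℤ) ∈ supp (part f i)
        · rwa [if_pos h0] at this
        · rw [hsupp _ 0 h0, map_zero]
      rw [hmv]
      conv_rhs => rw [← hsum f, map_sum]
      refine Finset.sum_congr rfl fun i _ => ?_
      rcases eq_or_ne i 0 with rfl | hi
      · simp
      · rw [hyp i hi, zero_mul]
    have hsemi : ∀ f : R, (GLin.comodAlong (SLn.mkHom n k) inferInstance).coact f = f ⊗ₜ[k] (1 : SLn n k) →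
        ∀ m : ℕ, 0 < m → x (part f m) = 0 := by
      intro f hf m hm
      have hc : part f m ^ n ∈ HopfRep.eigenspace k (GLn n k) R ((GLn.det : GLn n k) ^ m) := by
        show Comod.coact (k := k) (A := GLn n k) (part f m ^ n) = (part f m ^ n) ⊗ₜ[k] ((GLn.det : GLn n k) ^ m)
        refine eq_of_forall_slice fun z => ?_
        rw [← Comodule.orbitHom_apply]
        simp only [LinearMap.rTensor_tmul, TensorProduct.lid_tmul]
        refine FreeOrbH28.ext_points (k := k) fun g => ?_
        obtain ⟨t, s, hg, ht⟩ := exists_scal_mul_fromSL hn (toConv g)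
        have hkey : ∀ v : kˣ, mv (scal n v) (mv (toConv g) z) f = mv (scal n (t * v)) z f := by
          intro v
          rw [mv_mv, hg, mul_assoc, ← scal_central, ← mul_assoc, ← scal_mul_scal, ← mv_mv, mv_fromSL s _ hf]
        have hcoef : mv (toConv g) z (part f m) = z (part f m) * ((t ^ (m : ℤ) : kˣ) : k) := by
          have h0 := eq_zero_of_forall_units (supp f)
            (fun i => mv (toConv g) z (part f i) - z (part f i) * ((t ^ i : kˣ) : k)) (fun v => by
              rw [← sub_eq_zero.2 (hkey v), hmv, hmv, ← Finset.sum_sub_distrib]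
              refine Finset.sum_congr rfl fun i _ => ?_
              rw [mul_zpow, Units.val_mul]
              ring)
          by_cases hmem : (m : ℤ) ∈ supp f
          · exact sub_eq_zero.1 (h0 _ hmem)
          · rw [hsupp f _ hmem, map_zero, map_zero, zero_mul]
        show g (GLin.orbitHom k (GLn n k) z (part f m ^ n)) = g (z (part f m ^ n) • (GLn.det : GLn n k) ^ m)
        rw [map_pow, map_pow, show g (GLin.orbitHom k (GLn n k) z (part f m)) = mv (toConv g) z (part f m) from rfl,
          hcoef, map_smul, map_pow, map_pow, smul_eq_mul, mul_pow, show g GLn.det = (t : k) ^ n from ht.symm,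
          zpow_natCast, Units.val_pow_eq_pow_val, ← pow_mul, ← pow_mul, mul_comm n m]
      have := hno m hm _ hc
      rw [map_pow] at this
      exact eq_zero_of_pow_eq_zero this
    letI cB : Comod k (SLn n k) R := GLin.comodAlong (SLn.mkHom n k) inferInstance
    haveI hB : GLin.IsCoactAlg k (SLn n k) R :=
      GLin.isCoactAlg_comodAlong (SLn.mkHom n k) inferInstance inferInstance
    have hinv : x.comp (GLin.invariants k (SLn n k) R).val = y₀.comp (GLin.invariants k (SLn n k) R).val := by
      refine AlgHom.ext fun ⟨f, hf⟩ => ?_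
      show x f = y₀ f
      rw [hy₀]
      conv_lhs => rw [← hsum f, map_sum]
      rw [Finset.sum_eq_single (0 : ℤ)]
      · intro i _ hi
        rcases lt_or_gt_of_ne hi with h' | h'
        · exact hneg f i x h'
        · obtain ⟨m, rfl⟩ := Int.eq_ofNat_of_zero_le h'.le
          exact hsemi f hf m (by omega)
      · intro h0; rw [hsupp f 0 h0, map_zero]
    obtain ⟨z, hxz, hyz⟩ := (S19602.result k (SLn n k) GLRed28.isLinearlyReductive_SLn R x y₀).1 hinv
    refine hcond z (AlgHom.ext fun f => ?_) hxz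
    have hzp : ∀ i : ℤ, i ≠ 0 → z (part f i) = 0 := by
      intro i hi
      refine RingHom.mem_ker.1 (hyz (RingHom.mem_ker.2 ?_))
      refine FreeOrbH28.ext_points (k := k) fun s => ?_
      rw [map_zero, orbitHom_comodAlong _ _ inferInstance]
      show mv (fromSL s) y₀ (part f i) = 0
      have h0 := hmvp (Units.mk0 (2 : k) two_ne_zero) (mv (fromSL s) y₀) f i
      rw [mv_mv, ← scal_central, ← mv_mv, hy₀mv] at h0
      by_contra hne
      have h1 : ((Units.mk0 (2 : k) two_ne_zero ^ i : kˣ) : k) = 1 := mul_left_cancel₀ hne (h0.symm.trans (mul_one _).symm)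
      rw [Units.val_zpow_eq_zpow_val, Units.val_mk0] at h1
      have h2 : ((2 : ℚ) ^ i : ℚ) = (2 : ℚ) ^ (0 : ℤ) := by
        apply Rat.cast_injective (α := k)
        push_cast
        simpa using h1
      exact hi (zpow_right_injective₀ (by norm_num : (0 : ℚ) < 2) (by norm_num : (2 : ℚ) ≠ 1) h2)
    rw [horbf, AlgHom.comp_apply, Algebra.ofId_apply]
    have hz0 : z f = z (part f 0) := by
      conv_lhs => rw [← hsum f, map_sum]
      exact Finset.sum_eq_single (0 : ℤ) (fun i _ hi => hzp i hi) fun h0 => by rw [hsupp f 0 h0, map_zero]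
    rw [hz0, Finset.sum_eq_single (0 : ℤ) (fun i _ hi => by rw [hzp i hi, AddMonoidAlgebra.single_zero])
      (fun h0 => by rw [hsupp f 0 h0, map_zero, AddMonoidAlgebra.single_zero])]
    simp

end Action

end Groth.Agent.RayType28
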